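import Groth.Agent.Lib.Cyc.Dev.Scheme
import Groth.Agent.Lib.PushClosed.Unit
import Groth.Agent.Lib.Modules.StalkModule
import Groth.Agent.Lib.CurveBundle.EndAlg
import Groth.Prelude.Def_FlatMod2
import Mathlib.Topology.JacobsonSpace
import Mathlib.RingTheory.Flat.Basic

/-!
# Morphisms of modules vanishing on infinitesimal neighbourhoods of a fibre: stalkwise tools
-/

set_option autoImplicit false
set_option linter.style.haveILetI false
universe u

open CategoryTheory CategoryTheory.Limits AlgebraicGeometry Opposite TopologicalSpace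
open scoped TensorProduct

noncomputable section

namespace Groth.Agent.Lib.H99Hom

open Groth.Agent.Lib Modules.StalkModule DerivedOX.PullbackStalk

/-- The kernel of the stalk map of a base change of a closed subscheme of the base. -/
theorem ker_stalkMap_le {X S X' : Scheme.{u}} {B R : CommRingCat.{u}} (f : X ⟶ S) (g : Spec B ⟶ S)
    (g' : X' ⟶ X) (f' : X' ⟶ Spec B) (hc : IsPullback g' f' f g) [IsPreimmersion g'] (y' : X')
    (h : Spec R ⟶ S) (c : R ⟶ X.presheaf.stalk (g' y'))
    (hcomm : X.fromSpecStalk (g' y') ≫ f = Spec.map c ≫ h)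
    (q : R ⟶ B) (hq : Function.Surjective q.hom) (hg : Spec.map q ≫ h = g) :
    RingHom.ker (g'.stalkMap y').hom ≤ (RingHom.ker q.hom).map c.hom := by
  set J := (RingHom.ker q.hom).map c.hom
  intro a ha
  by_contra haJ
  have hJ : J ≠ ⊤ := fun e => haJ (e ▸ Submodule.mem_top)
  let O := X.presheaf.stalk (g' y')
  let Q := CommRingCat.of (O ⧸ J)
  haveI : Nontrivial (O ⧸ J) := Ideal.Quotient.nontrivial_iff.mpr hJ
  haveI : IsLocalRing (O ⧸ J) := IsLocalRing.of_surjective' _ Ideal.Quotient.mk_surjective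
  haveI : IsLocalRing Q := ‹IsLocalRing (O ⧸ J)›
  let π : O ⟶ Q := CommRingCat.ofHom (Ideal.Quotient.mk J)
  haveI : IsLocalHom π.hom := IsLocalHom.of_surjective _ Ideal.Quotient.mk_surjective
  let qb : B ⟶ Q := CommRingCat.ofHom (RingHom.liftOfSurjective q.hom hq
    ⟨(Ideal.Quotient.mk J).comp c.hom, fun r hr => Ideal.Quotient.eq_zero_iff_mem.2
      (Ideal.mem_map_of_mem _ hr)⟩)
  have hqb : q ≫ qb = c ≫ π := CommRingCat.hom_ext (RingHom.liftOfSurjective_comp q.hom hq _)
  have hsq : (Spec.map π ≫ X.fromSpecStalk (g' y')) ≫ f = Spec.map qb ≫ g := by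
    rw [Category.assoc, hcomm, ← hg, ← Category.assoc, ← Category.assoc, ← Spec.map_comp,
      ← Spec.map_comp, hqb]
  let l : Spec Q ⟶ X' := hc.lift (Spec.map π ≫ X.fromSpecStalk (g' y')) (Spec.map qb) hsq
  have hl : l ≫ g' = Spec.map π ≫ X.fromSpecStalk (g' y') := hc.lift_fst _ _ hsq
  have hpt : l (IsLocalRing.closedPoint Q) = y' := by
    apply g'.isEmbedding.injective
    show (l ≫ g') (IsLocalRing.closedPoint Q) = g' y'
    rw [hl]
    show X.fromSpecStalk (g' y') ((Spec.map π) (IsLocalRing.closedPoint Q)) = g' y'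
    have h1 : (Spec.map π) (IsLocalRing.closedPoint Q) = IsLocalRing.closedPoint O :=
      IsLocalRing.comap_closedPoint π.hom
    rw [h1, Scheme.fromSpecStalk_closedPoint]
  obtain ⟨U, hU, s, rfl⟩ := TopCat.Presheaf.exists_germ_eq X.presheaf a
  have hz : ∀ (z : X') (e : z = y') (hz : g' z ∈ U),
      g'.stalkMap z (X.presheaf.germ U (g' z) hz s) = 0 := by
    rintro z rfl hz
    exact ha
  have key : ∀ (k : Spec Q ⟶ X) (_ : k = l ≫ g') (hk : k (IsLocalRing.closedPoint Q) ∈ U),
      Scheme.stalkClosedPointTo k (X.presheaf.germ U _ hk s) = 0 := by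
    rintro k rfl hk
    rw [Scheme.stalkClosedPointTo_comp]
    show Scheme.stalkClosedPointTo l (g'.stalkMap _ (X.presheaf.germ U _ hk s)) = 0
    exact (congrArg (Scheme.stalkClosedPointTo l).hom (hz _ hpt hk)).trans (map_zero _)
  have hk : (Spec.map π ≫ X.fromSpecStalk (g' y')) (IsLocalRing.closedPoint Q) ∈ U := by
    rw [← hl]
    show g' (l (IsLocalRing.closedPoint Q)) ∈ U
    rw [hpt]
    exact hU
  have h2 := key _ hl.symm hk
  rw [← CommRingCat.comp_apply, Scheme.germ_stalkClosedPointTo_Spec_fromSpecStalk] at h2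
  exact haJ (Ideal.Quotient.eq_zero_iff_mem.1 h2)

section Unit

variable {X Z : Scheme.{u}} (i : Z ⟶ X) [IsClosedImmersion i]

/-- The semilinear map of stalks to the pullback, on elements. -/
def us (M : X.Modules) (z : Z) (a : M.presheaf.stalk (i.base z)) :
    ((Scheme.Modules.pullback i).obj M).presheaf.stalk z :=
  pushStalkMap i z _ (stalkMapₗ ((Scheme.Modules.pullbackPushforwardAdjunction i).unit.app M) (i.base z) a)

omit [IsClosedImmersion i] in
theorem us_natural {M N : X.Modules} (φ : M ⟶ N) (z : Z) (a : M.presheaf.stalk (i.base z)) :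
    stalkMapₗ ((Scheme.Modules.pullback i).map φ) z (us i M z a) = us i N z (stalkMapₗ φ (i.base z) a) :=
  (DFunLike.congr_fun (congrArg ModuleCat.Hom.hom (unitStalk_natural i z φ)) a).symm

theorem us_surjective (M : X.Modules) (z : Z) : Function.Surjective (us i M z) :=
  (PushClosed.Unit.bijective_pushStalkMap i _ z).2.comp
    ((epi_iff_stalkMapₗ_surjective _).1 (PushClosed.Unit.epi_unit i M) (i.base z))

omit [IsClosedImmersion i] in
theorem us_mem_map (M : X.Modules) (z : Z) (I : Ideal (X.presheaf.stalk (i.base z)))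
    (a : M.presheaf.stalk (i.base z)) (ha : a ∈ I • (⊤ : Submodule (X.presheaf.stalk (i.base z)) (M.presheaf.stalk (i.base z)))) :
    us i M z a ∈ I.map (i.stalkMap z).hom • (⊤ : Submodule (Z.presheaf.stalk z) _) := by
  unfold us
  induction ha using Submodule.smul_induction_on' with
  | smul r hr m _ =>
    rw [map_smul, pushStalkMap_smul]
    exact Submodule.smul_mem_smul (Ideal.mem_map_of_mem _ hr) Submodule.mem_top
  | add p hp q hq ihp ihq =>
    rw [map_add, map_add]
    exact Submodule.add_mem _ ihp ihq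

omit [IsClosedImmersion i] in
theorem us_eq_zero_of_mem (M : X.Modules) (z : Z)
    (a : M.presheaf.stalk (i.base z))
    (ha : a ∈ RingHom.ker (i.stalkMap z).hom • (⊤ : Submodule (X.presheaf.stalk (i.base z)) (M.presheaf.stalk (i.base z)))) :
    us i M z a = 0 := by
  have h := us_mem_map i M z _ a ha
  rwa [(Ideal.map_eq_bot_iff_le_ker _).2 le_rfl, Submodule.bot_smul, Submodule.mem_bot] at h

theorem mem_of_us_eq_zero (M : X.Modules) (z : Z) (a : M.presheaf.stalk (i.base z))
    (ha : us i M z a = 0) :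
    a ∈ RingHom.ker (i.stalkMap z).hom • (⊤ : Submodule (X.presheaf.stalk (i.base z)) (M.presheaf.stalk (i.base z))) :=
  Cyc.Dev.SchemeCase.stalk_kernel_unit_le i M z a
    ((PushClosed.Unit.bijective_pushStalkMap i _ z).1 (ha.trans (map_zero _).symm))

theorem values_mem_of_pullback_eq_zero {E F : X.Modules} (φ : E ⟶ F)
    (h : (Scheme.Modules.pullback i).map φ = 0) (z : Z) (e : E.presheaf.stalk (i.base z)) :
    stalkMapₗ φ (i.base z) e ∈
      RingHom.ker (i.stalkMap z).hom • (⊤ : Submodule (X.presheaf.stalk (i.base z)) (F.presheaf.stalk (i.base z))) := by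
  refine mem_of_us_eq_zero i F z _ ?_
  rw [← us_natural i φ z e, h, stalkMapₗ_zero, LinearMap.zero_apply]

theorem pullback_eq_zero_of_values {E F : X.Modules} (φ : E ⟶ F)
    (h : ∀ (z : Z) (e : E.presheaf.stalk (i.base z)), stalkMapₗ φ (i.base z) e ∈
      RingHom.ker (i.stalkMap z).hom • (⊤ : Submodule (X.presheaf.stalk (i.base z)) (F.presheaf.stalk (i.base z)))) :
    (Scheme.Modules.pullback i).map φ = 0 := by
  refine hom_ext_stalkMapₗ fun z => LinearMap.ext fun v => ?_
  obtain ⟨e, rfl⟩ := us_surjective i E z v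
  rw [us_natural, us_eq_zero_of_mem i F z _ (h z e), stalkMapₗ_zero, LinearMap.zero_apply]

end Unit

/-- In a flat module the annihilator of a scalar is generated by the annihilator of the scalar. -/
theorem mem_smul_of_smul_eq_zero {R M : Type u} [CommRing R] [AddCommGroup M] [Module R M]
    [Module.Flat R M] (a : R) (v : M) (h : a • v = 0) :
    v ∈ LinearMap.ker (LinearMap.lsmul R R a) • (⊤ : Submodule R M) := by
  have hex : Function.Exact (LinearMap.ker (LinearMap.lsmul R R a)).subtype (LinearMap.lsmul R R a) :=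
    LinearMap.exact_subtype_ker_map _
  obtain ⟨t, ht⟩ := (Module.Flat.rTensor_exact M hex ((1 : R) ⊗ₜ[R] v)).1 (by
    rw [LinearMap.rTensor_tmul, LinearMap.lsmul_apply, TensorProduct.smul_tmul, h,
      TensorProduct.tmul_zero])
  have hv : TensorProduct.lid R M ((1 : R) ⊗ₜ[R] v) = v := by simp
  rw [← hv, ← ht]
  clear ht hv
  induction t using TensorProduct.induction_on with
  | zero => simp
  | tmul r m =>
    rw [LinearMap.rTensor_tmul, TensorProduct.lid_tmul]
    exact Submodule.smul_mem_smul r.2 Submodule.mem_top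
  | add s t hs ht => rw [map_add, map_add]; exact Submodule.add_mem _ hs ht

/-- A morphism vanishing at the closed points of a Jacobson scheme vanishes. -/
theorem eq_zero_of_closedPoints {X : Scheme.{u}} [JacobsonSpace X] {E F : X.Modules} (φ : E ⟶ F)
    (h : ∀ y : X, y ∈ closedPoints X → stalkMapₗ φ y = 0) : φ = 0 := by
  refine hom_ext_stalkMapₗ fun x => LinearMap.ext fun v => ?_
  obtain ⟨U, hx, m, rfl⟩ := TopCat.Presheaf.exists_germ_eq E.presheaf v
  have hlc : IsLocallyClosed ((U : Set X) ∩ closure {x}) :=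
    U.2.isLocallyClosed.inter isClosed_closure.isLocallyClosed
  obtain ⟨y, ⟨hyU, hyx⟩, hyc⟩ := nonempty_inter_closedPoints
    (Z := (U : Set X) ∩ closure {x}) ⟨x, hx, subset_closure rfl⟩ hlc
  have h0 : F.presheaf.germ U y hyU (φ.app U m) = 0 := by
    rw [← stalkMapₗ_germ φ hyU m, h y hyc, LinearMap.zero_apply]
  rw [stalkMapₗ_zero, LinearMap.zero_apply, stalkMapₗ_germ]
  have hs : x ⤳ y := specializes_iff_mem_closure.2 hyx
  have := congrArg (F.presheaf.stalkSpecializes hs) h0
  rw [map_zero] at this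
  exact (TopCat.Presheaf.germ_stalkSpecializes_apply F.presheaf hyU hs (φ.app U m)).symm.trans this

theorem pullback_map_comp_eq_zero_iff {X Y Z : Scheme.{u}} (a : X ⟶ Y) (b : Y ⟶ Z) (c : X ⟶ Z)
    (hc : a ≫ b = c) {E F : Z.Modules} (φ : E ⟶ F) :
    (Scheme.Modules.pullback c).map φ = 0 ↔
      (Scheme.Modules.pullback a).map ((Scheme.Modules.pullback b).map φ) = 0 := by
  subst hc
  have hn : (Scheme.Modules.pullback a).map ((Scheme.Modules.pullback b).map φ) ≫
      (Scheme.Modules.pullbackComp a b).hom.app F =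
      (Scheme.Modules.pullbackComp a b).hom.app E ≫ (Scheme.Modules.pullback (a ≫ b)).map φ :=
    (Scheme.Modules.pullbackComp a b).hom.naturality φ
  constructor
  · intro h
    rw [h, comp_zero] at hn
    exact (cancel_mono ((Scheme.Modules.pullbackComp a b).hom.app F)).1 (hn.trans zero_comp.symm)
  · intro h
    rw [h, zero_comp] at hn
    exact (cancel_epi ((Scheme.Modules.pullbackComp a b).hom.app E)).1 (hn.symm.trans comp_zero.symm)

end Groth.Agent.Lib.H99Hom
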