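import Groth.Agent.Lib.H99Hom.Basic

/-!
# The infinitesimal step: a morphism which vanishes modulo a socle element
-/

set_option autoImplicit false
set_option linter.style.haveILetI false
universe u

open CategoryTheory CategoryTheory.Limits AlgebraicGeometry Opposite TopologicalSpace
open scoped TensorProduct

noncomputable section

namespace Groth.Agent.Lib.H99Hom

open Groth.Agent.Lib Modules.StalkModule DerivedOX.PullbackStalk

variable {X : Scheme.{u}} {A : CommRingCat.{u}} (fA : X ⟶ Spec A)

/-- The constants of the base in the local ring. -/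
def cst (y : X) : A ⟶ X.presheaf.stalk y :=
  (Scheme.ΓSpecIso A).inv ≫ fA.appTop ≫ X.presheaf.germ ⊤ y trivial

theorem cst_comm (y : X) : X.fromSpecStalk y ≫ fA = Spec.map (cst fA y) ≫ 𝟙 _ := by
  have h : fA = X.toSpecΓ ≫ Spec.map fA.appTop ≫ Spec.map (Scheme.ΓSpecIso A).inv := by
    rw [← Scheme.toSpecΓ_naturality_assoc, ← SpecMap_ΓSpecIso_hom, ← Spec.map_comp,
      Iso.inv_hom_id, Spec.map_id, Category.comp_id]
  rw [Category.comp_id, cst, Spec.map_comp, Spec.map_comp]
  conv_lhs => rw [h]
  rw [Scheme.fromSpecStalk_toSpecΓ_assoc, Category.assoc]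

theorem stalkMap_germ_const (y : X) (x : A) :
    fA.stalkMap y ((Spec A).presheaf.germ ⊤ (fA y) trivial ((Scheme.ΓSpecIso A).inv x)) =
      cst fA y x :=
  Scheme.Hom.germ_stalkMap_apply fA ⊤ y trivial _

theorem const_bijective [IsLocalRing A] (p : Spec A) (hp : p = IsLocalRing.closedPoint A) :
    Function.Bijective fun x : A => (Spec A).presheaf.germ ⊤ p trivial ((Scheme.ΓSpecIso A).inv x) := by
  subst hp
  have h : ((Scheme.ΓSpecIso A).inv ≫ (Spec A).presheaf.germ ⊤ (IsLocalRing.closedPoint A) trivial) =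
      (stalkClosedPointIso A).inv := by
    rw [← Iso.comp_hom_eq_id (stalkClosedPointIso A)] at *
    simp [germ_stalkClosedPointIso_hom]
  have := ConcreteCategory.bijective_of_isIso (stalkClosedPointIso A).inv
  rw [← h] at this
  exact this

theorem stalkMap_cst_section (σ : Spec A ⟶ X) (hσ : σ ≫ fA = 𝟙 _) (p : Spec A) (x : A) :
    σ.stalkMap p (cst fA (σ p) x) = (Spec A).presheaf.germ ⊤ p trivial ((Scheme.ΓSpecIso A).inv x) := by
  refine (Scheme.Hom.germ_stalkMap_apply σ ⊤ p trivial _).trans ?_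
  refine congrArg _ ?_
  show (fA.appTop ≫ σ.appTop) _ = _
  rw [← Scheme.Hom.comp_appTop, hσ]
  rfl

theorem stalkMap_cst_eq_zero {Z : Scheme.{u}} {B : CommRingCat.{u}} (j : Z ⟶ X) (f' : Z ⟶ Spec B)
    (r : A ⟶ B) (w : j ≫ fA = f' ≫ Spec.map r) (z : Z) (x : A) (hx : r x = 0) :
    j.stalkMap z (cst fA (j z) x) = 0 := by
  refine (Scheme.Hom.germ_stalkMap_apply j ⊤ z trivial _).trans ?_
  show Z.presheaf.germ ⊤ z trivial ((fA.appTop ≫ j.appTop) ((Scheme.ΓSpecIso A).inv x)) = 0
  rw [← Scheme.Hom.comp_appTop, w, Scheme.Hom.comp_appTop]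
  show Z.presheaf.germ ⊤ z trivial (f'.appTop (((Scheme.ΓSpecIso A).inv ≫ (Spec.map r).appTop) x)) = 0
  rw [← Scheme.ΓSpecIso_inv_naturality]
  show Z.presheaf.germ ⊤ z trivial (f'.appTop ((Scheme.ΓSpecIso B).inv (r x))) = 0
  rw [hx, map_zero, map_zero, map_zero]

theorem exists_smul_eq_of_mem {R M : Type u} [CommRing R] [AddCommGroup M] [Module R M] (a : R) (m : M)
    (h : m ∈ Ideal.span {a} • (⊤ : Submodule R M)) : ∃ w : M, a • w = m := by
  induction h using Submodule.smul_induction_on' with
  | smul r hr n _ =>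
    obtain ⟨c, rfl⟩ := Ideal.mem_span_singleton'.1 hr
    exact ⟨c • n, by rw [smul_smul, mul_comm]⟩
  | add p _ q _ ihp ihq =>
    obtain ⟨v, rfl⟩ := ihp
    obtain ⟨w, rfl⟩ := ihq
    exact ⟨v + w, smul_add _ _ _⟩

/-- Vanishing passes over a small extension, given vanishing on the closed fibre. -/
theorem step [IsLocalRing A] (hA : Subsingleton (Spec A)) {E F : X.Modules} (φ : E ⟶ F)
    (hF : FlatMod.IsFlatOver fA F) (a : A) (ha : a ≠ 0)
    (ham : ∀ x ∈ IsLocalRing.maximalIdeal A, a * x = 0)
    {X₀ X' : Scheme.{u}} {K B : CommRingCat.{u}} [Nontrivial K] [Nontrivial B]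
    (r : A ⟶ K) (hr : Function.Surjective r.hom) (hrk : RingHom.ker r.hom = IsLocalRing.maximalIdeal A)
    (j : X₀ ⟶ X) [IsClosedImmersion j] (f₀ : X₀ ⟶ Spec K) (hj : IsPullback j f₀ fA (Spec.map r))
    (q : A ⟶ B) (hq : Function.Surjective q.hom) (hqk : RingHom.ker q.hom = Ideal.span {a})
    (k : X' ⟶ X) [IsClosedImmersion k] (f' : X' ⟶ Spec B) (hk : IsPullback k f' fA (Spec.map q))
    (hk0 : (Scheme.Modules.pullback k).map φ = 0)
    (σ : Spec A ⟶ X) [IsClosedImmersion σ] (hσ : σ ≫ fA = 𝟙 _)
    (hσ0 : (Scheme.Modules.pullback σ).map φ = 0)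
    (hfree : Module.Free (X.presheaf.stalk (σ (IsLocalRing.closedPoint A)))
      (F.presheaf.stalk (σ (IsLocalRing.closedPoint A))))
    (hkey : ∀ χ : (Scheme.Modules.pullback j).obj E ⟶ (Scheme.Modules.pullback j).obj F,
      (∀ z : X₀, j z = σ (IsLocalRing.closedPoint A) → ∀ v, stalkMapₗ χ z v ∈
        IsLocalRing.maximalIdeal (X₀.presheaf.stalk z) •
          (⊤ : Submodule (X₀.presheaf.stalk z) (((Scheme.Modules.pullback j).obj F).presheaf.stalk z))) →
        χ = 0) :
    φ = 0 := by
  haveI : Nonempty (Spec K) := inferInstanceAs (Nonempty (PrimeSpectrum K))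
  haveI : Nonempty (Spec B) := inferInstanceAs (Nonempty (PrimeSpectrum B))
  haveI : Surjective (Spec.map r) := ⟨fun p => ⟨Classical.arbitrary _, Subsingleton.elim _ _⟩⟩
  haveI : Surjective (Spec.map q) := ⟨fun p => ⟨Classical.arbitrary _, Subsingleton.elim _ _⟩⟩
  haveI : Surjective j := MorphismProperty.of_isPullback (P := @Surjective) hj.flip inferInstance
  haveI : Surjective k := MorphismProperty.of_isPullback (P := @Surjective) hk.flip inferInstance
  let μ : F ⟶ F := CurveBundle.EndAlg.scal F (fA.appTop ((Scheme.ΓSpecIso A).inv a))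
  have hμ : ∀ (y : X) (v : F.presheaf.stalk y), stalkMapₗ μ y v = cst fA y a • v :=
    fun y v => CurveBundle.EndAlg.stalk_scal F _ y v
  -- annihilator of `a`
  have hann : ∀ (y : X) (v : F.presheaf.stalk y), cst fA y a • v = 0 →
      v ∈ (IsLocalRing.maximalIdeal A).map (cst fA y).hom •
        (⊤ : Submodule (X.presheaf.stalk y) (F.presheaf.stalk y)) := by
    intro y v hv
    have hb := const_bijective (A := A) (fA y) (Subsingleton.elim _ _)
    letI := FlatMod.moduleStalkOver fA F y
    haveI : Module.Flat ((Spec A).presheaf.stalk (fA y)) (F.presheaf.stalk y) := hF y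
    have hv' : (Spec A).presheaf.germ ⊤ (fA y) trivial ((Scheme.ΓSpecIso A).inv a) • v = 0 := by
      show fA.stalkMap y _ • v = 0
      rw [stalkMap_germ_const]
      exact hv
    have hmem := mem_smul_of_smul_eq_zero _ v hv'
    clear hv hv'
    induction hmem using Submodule.smul_induction_on' with
    | smul c hc m _ =>
      obtain ⟨x, rfl⟩ := hb.2 c
      have hx : a * x = 0 := hb.1 (by
        simp only [map_mul, map_zero]
        exact hc)
      have hxm : x ∈ IsLocalRing.maximalIdeal A :=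
        fun hu => ha (hu.mul_left_eq_zero.1 hx)
      show fA.stalkMap y _ • m ∈ _
      rw [stalkMap_germ_const]
      exact Submodule.smul_mem_smul (Ideal.mem_map_of_mem _ hxm) Submodule.mem_top
    | add p _ s _ ihp ihs => exact Submodule.add_mem _ ihp ihs
  -- `φ` takes values in `a F`
  have hval : ∀ (y : X) (e : E.presheaf.stalk y), ∃ w, cst fA y a • w = stalkMapₗ φ y e := by
    intro y e
    obtain ⟨z, rfl⟩ := k.surjective y
    have h1 := values_mem_of_pullback_eq_zero k φ hk0 z e
    have h2 := ker_stalkMap_le fA (Spec.map q) k f' hk z (𝟙 _) (cst fA (k z)) (cst_comm fA _) q hq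
      (Category.comp_id _)
    rw [hqk, Ideal.map_span, Set.image_singleton] at h2
    exact exists_smul_eq_of_mem _ _ (Submodule.smul_mono_left h2 h1)
  have h0 : φ ≫ cokernel.π μ = 0 := hom_ext_stalkMapₗ fun y => LinearMap.ext fun e => by
    obtain ⟨w, hw⟩ := hval y e
    rw [stalkMapₗ_comp, LinearMap.comp_apply, ← hw, ← hμ y w, ← LinearMap.comp_apply, ← stalkMapₗ_comp,
      cokernel.condition, stalkMapₗ_zero, stalkMapₗ_zero]
    rfl
  let p := Abelian.factorThruImage μ
  have hfac : ∀ (y : X) (v : F.presheaf.stalk y), stalkMapₗ μ y v =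
      stalkMapₗ (Abelian.image.ι μ) y (stalkMapₗ p y v) := fun y v => by
    rw [← LinearMap.comp_apply, ← stalkMapₗ_comp]
    exact (congrArg (fun m => stalkMapₗ m y v) (Abelian.image.fac μ)).symm
  let η := (Scheme.Modules.pullbackPushforwardAdjunction j).unit.app F
  -- elements killed by `μ` die on the fibre
  have hmker : ∀ (z : X₀), (IsLocalRing.maximalIdeal A).map (cst fA (j z)).hom ≤
      RingHom.ker (j.stalkMap z).hom := fun z =>
    Ideal.map_le_iff_le_comap.2 fun x hx => stalkMap_cst_eq_zero fA j f₀ r hj.w z x (by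
      rw [← hrk] at hx; exact hx)
  have h2 : kernel.ι p ≫ η = 0 := hom_ext_stalkMapₗ fun y => LinearMap.ext fun w => by
    obtain ⟨z, rfl⟩ := j.surjective y
    rw [stalkMapₗ_comp, LinearMap.comp_apply, stalkMapₗ_zero, LinearMap.zero_apply]
    have hv : cst fA (j z) a • stalkMapₗ (kernel.ι p) (j z) w = 0 := by
      rw [← hμ, hfac, ← LinearMap.comp_apply (stalkMapₗ p (j z)), ← stalkMapₗ_comp,
        kernel.condition, stalkMapₗ_zero, LinearMap.zero_apply, map_zero]
    exact (PushClosed.Unit.bijective_pushStalkMap j _ z).1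
      ((us_eq_zero_of_mem j F z _ (Submodule.smul_mono_left (hmker z) (hann _ _ hv))).trans
        (map_zero _).symm)
  let ψ₀ : E ⟶ Abelian.image μ := kernel.lift (cokernel.π μ) φ h0
  have hψ₀ : ψ₀ ≫ Abelian.image.ι μ = φ := kernel.lift_ι _ _ _
  let β := Abelian.epiDesc p η h2
  have hβ : p ≫ β = η := Abelian.comp_epiDesc p η h2
  let χ := ((Scheme.Modules.pullbackPushforwardAdjunction j).homEquiv E _).symm (ψ₀ ≫ β)
  -- description of `χ` on stalks
  have hχ : ∀ (z : X₀) (e : E.presheaf.stalk (j z)), ∃ v : F.presheaf.stalk (j z),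
      cst fA (j z) a • v = stalkMapₗ φ (j z) e ∧
        stalkMapₗ χ z (us j E z e) = us j F z v := by
    intro z e
    obtain ⟨v, hv⟩ := (epi_iff_stalkMapₗ_surjective p).1 inferInstance (j z) (stalkMapₗ ψ₀ (j z) e)
    refine ⟨v, ?_, ?_⟩
    · rw [← hμ, hfac, hv, ← LinearMap.comp_apply, ← stalkMapₗ_comp, hψ₀]
    · refine (pushStalkMap_natural j z χ _).symm.trans (congrArg (pushStalkMap j z _) ?_)
      have he : (Scheme.Modules.pullbackPushforwardAdjunction j).unit.app E ≫
          (Scheme.Modules.pushforward j).map χ = ψ₀ ≫ β := by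
        exact (Adjunction.homEquiv_unit ..).symm.trans (Equiv.apply_symm_apply _ _)
      refine ((LinearMap.congr_fun (stalkMapₗ_comp _ _ _) e).symm.trans
        ((congrArg (fun m => stalkMapₗ m (j z) e) he).trans ?_))
      show stalkMapₗ (ψ₀ ≫ β) (j z) e = stalkMapₗ η (j z) v
      rw [← hβ, stalkMapₗ_comp, stalkMapₗ_comp, LinearMap.comp_apply, LinearMap.comp_apply, hv]
  -- the values at the section lie in the maximal ideal
  have hsec : ∀ (y : X) (_ : y = σ (IsLocalRing.closedPoint A)) (v : F.presheaf.stalk y)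
      (e : E.presheaf.stalk y), cst fA y a • v = stalkMapₗ φ y e →
      v ∈ IsLocalRing.maximalIdeal (X.presheaf.stalk y) •
        (⊤ : Submodule (X.presheaf.stalk y) (F.presheaf.stalk y)) := by
    rintro y rfl v e hve
    haveI := hfree
    have hmem := values_mem_of_pullback_eq_zero σ φ hσ0 (IsLocalRing.closedPoint A) e
    rw [← hve] at hmem
    let b := Module.Free.chooseBasis (X.presheaf.stalk (σ (IsLocalRing.closedPoint A)))
      (F.presheaf.stalk (σ (IsLocalRing.closedPoint A)))
    rw [← b.linearCombination_repr v, Finsupp.linearCombination_apply]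
    refine Submodule.sum_mem _ fun i _ => Submodule.smul_mem_smul ?_ Submodule.mem_top
    intro hu
    have hi : ∀ m ∈ RingHom.ker (σ.stalkMap (IsLocalRing.closedPoint A)).hom •
        (⊤ : Submodule (X.presheaf.stalk (σ (IsLocalRing.closedPoint A)))
          (F.presheaf.stalk (σ (IsLocalRing.closedPoint A)))),
        b.repr m i ∈ RingHom.ker (σ.stalkMap (IsLocalRing.closedPoint A)).hom := by
      intro m hm
      induction hm using Submodule.smul_induction_on' with
      | smul c hc n _ =>
        rw [map_smul, Finsupp.smul_apply, smul_eq_mul]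
        exact Ideal.mul_mem_right _ _ hc
      | add p _ s _ ihp ihs =>
        rw [map_add, Finsupp.add_apply]
        exact Ideal.add_mem _ ihp ihs
    have h4 := hi _ hmem
    rw [map_smul, Finsupp.smul_apply, smul_eq_mul, Ideal.mul_unit_mem_iff_mem _ hu, RingHom.mem_ker] at h4
    refine ha ((const_bijective (A := A) (IsLocalRing.closedPoint A) rfl).1 ?_)
    simp only [map_zero]
    exact (stalkMap_cst_section fA σ hσ (IsLocalRing.closedPoint A) a).symm.trans h4
  have hχ0 : χ = 0 := hkey χ fun z hz w => by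
    obtain ⟨e, rfl⟩ := us_surjective j E z w
    obtain ⟨v, hv, hv'⟩ := hχ z e
    rw [hv']
    refine Submodule.smul_mono_left ?_ (us_mem_map j F z _ v (hsec _ hz v e hv))
    rw [Ideal.map_le_iff_le_comap]
    exact fun x hx => map_nonunit (j.stalkMap z).hom x hx
  refine hom_ext_stalkMapₗ fun y => LinearMap.ext fun e => ?_
  obtain ⟨z, rfl⟩ := j.surjective y
  obtain ⟨v, hv, hv'⟩ := hχ z e
  rw [hχ0, stalkMapₗ_zero, LinearMap.zero_apply] at hv'
  have h5 := mem_of_us_eq_zero j F z v hv'.symm
  have h6 := Submodule.smul_mono_left (ker_stalkMap_le fA (Spec.map r) j f₀ hj z (𝟙 _) (cst fA (j z))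
    (cst_comm fA _) r hr (Category.comp_id _)) h5
  rw [stalkMapₗ_zero, LinearMap.zero_apply, ← hv]
  rw [hrk] at h6
  suffices ∀ m ∈ (IsLocalRing.maximalIdeal A).map (cst fA (j z)).hom •
      (⊤ : Submodule (X.presheaf.stalk (j z)) (F.presheaf.stalk (j z))), cst fA (j z) a • m = 0 from
    this v h6
  intro m hm
  induction hm using Submodule.smul_induction_on' with
  | smul c hc n _ =>
    have hca : cst fA (j z) a * c = 0 := by
      induction hc using Submodule.span_induction with
      | mem c hc =>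
        obtain ⟨x, hx, rfl⟩ := hc
        rw [← map_mul, ham x hx, map_zero]
      | zero => rw [mul_zero]
      | add p s _ _ ihp ihs => rw [mul_add, ihp, ihs, add_zero]
      | smul t p _ ih => rw [smul_eq_mul, mul_left_comm, ih, mul_zero]
    rw [smul_smul, hca, zero_smul]
  | add p _ s _ ihp ihs => rw [smul_add, ihp, ihs, add_zero]

end Groth.Agent.Lib.H99Hom
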